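import Groth.Agent.AdicLim.Noetherian
import Mathlib.RingTheory.AdicCompletion.Completeness
import Mathlib.RingTheory.AdicCompletion.Algebra
import Mathlib.RingTheory.Flat.Tensor
import Mathlib.RingTheory.Filtration

/-!
The completion of a flat algebra along an ideal from the base: Noetherianity and flatness.
-/

universe u
open scoped TensorProduct

namespace Groth.Agent.ResExt

theorem isNoetherianRing_adicCompletion {R : Type u} [CommRing R] (I : Ideal R) (hI : I.FG)
    [IsNoetherianRing (R ⧸ I)] : IsNoetherianRing (AdicCompletion I R) := by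
  haveI : IsAdicComplete I (AdicCompletion I R) := AdicCompletion.isAdicComplete hI
  haveI : IsAdicComplete (I.map (algebraMap R (AdicCompletion I R))) (AdicCompletion I R) :=
    (IsAdicComplete.map_algebraMap_iff _ _).2 inferInstance
  haveI : IsNoetherianRing
      (AdicCompletion I R ⧸ RingHom.ker (AdicCompletion.evalOneₐ I).toRingHom) :=
    isNoetherianRing_of_ringEquiv _
      (RingHom.quotientKerEquivOfSurjective (AdicCompletion.evalOneₐ_surjective I)).symm
  rw [AdicCompletion.ker_evalOneₐ_eq_map I hI] at this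
  exact Groth.Agent.AdicLim.isNoetherianRing_of_isAdicComplete
    (J := I.map (algebraMap R (AdicCompletion I R))) (hI.map _)

section

variable {A : Type u} [CommRing A]

theorem mem_smul_of_rTensor_eq_zero {P Q W : Type u} [AddCommGroup P] [Module A P] [AddCommGroup Q]
    [Module A Q] [AddCommGroup W] [Module A W] (a : Ideal A) (f : P →ₗ[A] Q)
    (hf : Function.Surjective f) (hker : LinearMap.ker f ≤ a • ⊤)
    (hW : ∀ c ∈ a, ∀ w : W, c • w = 0) : Function.Injective (f.rTensor W) := by
  rw [injective_iff_map_eq_zero]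
  intro z hz
  obtain ⟨y, rfl⟩ := (rTensor_exact W f.exact_subtype_ker_map hf z).1 hz
  have hpw : ∀ v ∈ a • (⊤ : Submodule A P), ∀ w : W, v ⊗ₜ[A] w = 0 := fun v hv w =>
    Submodule.smul_induction_on (p := fun v => v ⊗ₜ[A] w = 0) hv
      (fun c hc q _ => by rw [TensorProduct.smul_tmul, hW c hc, TensorProduct.tmul_zero])
      (fun x y hx hy => by rw [TensorProduct.add_tmul, hx, hy, add_zero])
  suffices H : ∀ y, (LinearMap.ker f).subtype.rTensor W y = 0 from H y
  intro y
  induction y using TensorProduct.induction_on with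
  | zero => simp
  | tmul p w => exact hpw _ (hker p.2) w
  | add x y hx hy => rw [map_add, hx, hy, add_zero]

theorem flat_adicCompletion [IsNoetherianRing A] (I : Ideal A) (B : Type u) [CommRing B]
    [Algebra A B] [Module.Flat A B]
    [IsNoetherianRing (AdicCompletion (I.map (algebraMap A B)) B)] :
    Module.Flat A (AdicCompletion (I.map (algebraMap A B)) B) := by
  set J := I.map (algebraMap A B) with hJ
  let D := AdicCompletion J B
  have hJfg : J.FG := Ideal.FG.map (IsNoetherian.noetherian I) _
  haveI : IsScalarTower A B D := IsScalarTower.of_algebraMap_eq fun a => rfl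
  have hJn : ∀ k : ℕ, ((J ^ k).restrictScalars A) = I ^ k • (⊤ : Submodule A B) := fun k => by
    rw [Ideal.smul_top_eq_map, hJ, Ideal.map_pow]
  have hDn : ∀ k : ℕ, (J ^ k • (⊤ : Submodule B D)).restrictScalars A = I ^ k • ⊤ := fun k => by
    have hJk : J ^ k = (I ^ k).map (algebraMap A B) := (Ideal.map_pow _ _ _).symm
    rw [hJk, Submodule.restrictScalars_map_smul_eq, Submodule.restrictScalars_top]
  haveI : IsAdicComplete J D := AdicCompletion.isAdicComplete hJfg
  haveI : IsAdicComplete (I.map (algebraMap A D)) D := by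
    rw [IsScalarTower.algebraMap_eq A B D, ← Ideal.map_map]
    exact (IsAdicComplete.map_algebraMap_iff _ _).2 inferInstance
  rw [Module.Flat.iff_lTensor_injective']
  intro a
  rw [injective_iff_map_eq_zero]
  intro x hx
  have step1 : ∀ k : ℕ, ((I ^ k).mkQ ∘ₗ a.subtype).rangeRestrict.lTensor D x = 0 := by
    intro k
    set π := ((I ^ k).mkQ ∘ₗ a.subtype).rangeRestrict with hπ
    let W := LinearMap.range ((I ^ k).mkQ ∘ₗ a.subtype)
    let g : D →ₗ[A] B ⧸ J ^ k := ((AdicCompletion.evalₐ J k).restrictScalars A).toLinearMap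
    let q : B →ₗ[A] B ⧸ J ^ k := (Ideal.Quotient.mkₐ A (J ^ k)).toLinearMap
    have hgs : Function.Surjective g := AdicCompletion.surjective_evalₐ J k
    have hgk : LinearMap.ker g ≤ I ^ k • ⊤ := by
      intro z hz
      rw [← hDn k, Submodule.restrictScalars_mem, AdicCompletion.pow_smul_top_eq_ker_eval hJfg,
        LinearMap.mem_ker]
      have hz' : AdicCompletion.evalₐ J k z = 0 := hz
      rw [← AdicCompletion.factor_evalₐ_eq_eval J z (by simp), hz', map_zero]
    have hqk : LinearMap.ker q ≤ I ^ k • ⊤ := by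
      intro z hz
      rw [← hJn k]
      exact Ideal.Quotient.eq_zero_iff_mem.1 hz
    have hW : ∀ (V : Submodule A (A ⧸ I ^ k)), ∀ c ∈ I ^ k, ∀ w : V, c • w = 0 := fun V c hc w => by
      ext
      obtain ⟨y, hy⟩ := Ideal.Quotient.mk_surjective (w : A ⧸ I ^ k)
      rw [Submodule.coe_smul, ← hy, Submodule.coe_zero, Algebra.smul_def,
        Ideal.Quotient.algebraMap_eq, Ideal.Quotient.eq_zero_iff_mem.2 hc, zero_mul]
    have hgi := mem_smul_of_rTensor_eq_zero (W := ↥W) (I ^ k) g hgs hgk (hW W)
    refine hgi ?_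
    rw [map_zero]
    obtain ⟨y, hy⟩ := LinearMap.rTensor_surjective W
      (g := q) (Ideal.Quotient.mkₐ_surjective A (J ^ k)) (g.rTensor W (π.lTensor D x))
    have hWi : Function.Injective (q.rTensor (A ⧸ I ^ k)) :=
      mem_smul_of_rTensor_eq_zero (I ^ k) q (Ideal.Quotient.mkₐ_surjective A _) hqk fun c hc w => by
        obtain ⟨y, rfl⟩ := Ideal.Quotient.mk_surjective w
        rw [Algebra.smul_def, Ideal.Quotient.algebraMap_eq, Ideal.Quotient.eq_zero_iff_mem.2 hc,
          zero_mul]
    have h0 : q.rTensor (A ⧸ I ^ k) (W.subtype.lTensor B y) = 0 := by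
      rw [← LinearMap.comp_apply, LinearMap.rTensor_comp_lTensor, ← LinearMap.lTensor_comp_rTensor,
        LinearMap.comp_apply, hy, ← LinearMap.comp_apply, LinearMap.lTensor_comp_rTensor,
        ← LinearMap.rTensor_comp_lTensor, LinearMap.comp_apply, ← LinearMap.lTensor_comp_apply,
        hπ, show W.subtype ∘ₗ ((I ^ k).mkQ ∘ₗ a.subtype).rangeRestrict = (I ^ k).mkQ ∘ₗ a.subtype from rfl,
        LinearMap.lTensor_comp_apply, hx, map_zero, map_zero]
    have hy0 : y = 0 := Module.Flat.lTensor_preserves_injective_linearMap W.subtype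
      Subtype.val_injective ((hWi (h0.trans (map_zero _).symm)).trans (map_zero _).symm)
    rw [← hy, hy0, map_zero]
  obtain ⟨c, hc⟩ := I.exists_pow_inf_eq_pow_smul (M := A) a
  have step2 : ∀ n : ℕ, x ∈ I ^ n • (⊤ : Submodule A (D ⊗[A] a)) := by
    intro n
    let P : Submodule A a := I ^ n • ⊤
    have hle : LinearMap.ker ((I ^ (n + c)).mkQ ∘ₗ a.subtype).rangeRestrict ≤ P := by
      rw [LinearMap.ker_rangeRestrict]
      intro v hv
      have h1 : (v : A) ∈ I ^ (n + c) • (⊤ : Submodule A A) ⊓ a := by
        refine ⟨?_, v.2⟩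
        have h0 : (v : A) ∈ I ^ (n + c) := Ideal.Quotient.eq_zero_iff_mem.1 hv
        simpa using h0
      rw [hc (n + c) (Nat.le_add_left _ _), Nat.add_sub_cancel] at h1
      have h2 : (v : A) ∈ P.map a.subtype := by
        rw [Submodule.map_smul'', Submodule.map_top, Submodule.range_subtype]
        exact Submodule.smul_mono le_rfl inf_le_right h1
      obtain ⟨v', hv', he⟩ := h2
      rwa [Subtype.val_injective he] at hv'
    let π := ((I ^ (n + c)).mkQ ∘ₗ a.subtype).rangeRestrict
    let f : LinearMap.range ((I ^ (n + c)).mkQ ∘ₗ a.subtype) →ₗ[A] a ⧸ P :=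
      (LinearMap.ker π).liftQ P.mkQ (hle.trans (by rw [Submodule.ker_mkQ])) ∘ₗ
        (π.quotKerEquivOfSurjective (LinearMap.surjective_rangeRestrict _)).symm.toLinearMap
    have hf : f ∘ₗ π = P.mkQ := LinearMap.ext fun v => by
      simp only [f, LinearMap.comp_apply, LinearEquiv.coe_coe]
      rw [show (π.quotKerEquivOfSurjective (LinearMap.surjective_rangeRestrict _)).symm (π v) =
        Submodule.Quotient.mk v from (LinearEquiv.symm_apply_eq _).2
          (LinearMap.quotKerEquivOfSurjective_apply_mk _ _ _).symm]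
      rfl
    have h0 : P.mkQ.lTensor D x = 0 := by
      rw [← hf, LinearMap.lTensor_comp_apply, step1, map_zero]
    obtain ⟨z, rfl⟩ := (lTensor_exact D (LinearMap.exact_subtype_mkQ P) P.mkQ_surjective x).1 h0
    have hdv : ∀ (d : D) (v : a), v ∈ P → d ⊗ₜ[A] v ∈ I ^ n • (⊤ : Submodule A (D ⊗[A] a)) :=
      fun d v hv => Submodule.smul_induction_on (p := fun v => d ⊗ₜ[A] v ∈ I ^ n • (⊤ : Submodule A (D ⊗[A] a))) hv
        (fun r hr w _ => by
          rw [TensorProduct.tmul_smul]
          exact Submodule.smul_mem_smul hr Submodule.mem_top)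
        (fun y z hy hz => by rw [TensorProduct.tmul_add]; exact add_mem hy hz)
    suffices H : ∀ z, P.subtype.lTensor D z ∈ I ^ n • (⊤ : Submodule A (D ⊗[A] a)) from H z
    intro z
    induction z using TensorProduct.induction_on with
    | zero => simp
    | tmul d v => exact hdv d _ v.2
    | add y z hy hz => rw [map_add]; exact add_mem hy hz
  have hmem : x ∈ (⨅ n : ℕ, (I.map (algebraMap A D)) ^ n • (⊤ : Submodule D (D ⊗[A] a))) := by
    rw [Submodule.mem_iInf]
    intro n
    have h := step2 n
    rw [← Submodule.restrictScalars_top (S := A) (R := D) (M := D ⊗[A] a),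
      ← Submodule.restrictScalars_map_smul_eq, Ideal.map_pow] at h
    exact h
  rwa [Ideal.iInf_pow_smul_eq_bot_of_le_jacobson _ (IsAdicComplete.le_jacobson_bot _),
    Submodule.mem_bot] at hmem

end

end Groth.Agent.ResExt
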