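import Mathlib.RingTheory.MvPolynomial.Basic
import Mathlib.RingTheory.Polynomial.Basic
import Mathlib.RingTheory.AdjoinRoot
import Mathlib.RingTheory.Flat.Tensor
import Mathlib.RingTheory.Flat.Stability
import Mathlib.RingTheory.Ideal.GoingUp
import Mathlib.RingTheory.IntegralClosure.IsIntegralClosure.Basic
import Mathlib.LinearAlgebra.TensorProduct.RightExactness
import Mathlib.Order.Zorn
import Mathlib.Algebra.MvPolynomial.Rename

/-!
Lifting an algebraic (possibly infinite) extension of the residue field of a local ring to a flat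
integral local algebra.
-/

universe u
open scoped TensorProduct

namespace Groth.Agent.ResExt

variable {R : Type u} [CommRing R]

theorem flat_quotient_iSup {P : Type u} [CommRing P] [Algebra R P] {ι : Type u} [Nonempty ι]
    (J : ι → Ideal P) (hdir : Directed (· ≤ ·) J) (h : ∀ i, Module.Flat R (P ⧸ J i)) :
    Module.Flat R (P ⧸ ⨆ i, J i) := by
  rw [Module.Flat.iff_lTensor_injective']
  intro a
  rw [injective_iff_map_eq_zero]
  intro x hx
  let q : P →ₗ[R] P ⧸ ⨆ i, J i := (Ideal.Quotient.mkₐ R _).toLinearMap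
  obtain ⟨x₀, rfl⟩ := LinearMap.rTensor_surjective a (g := q)
    (Ideal.Quotient.mkₐ_surjective R _) x
  have h1 : q (TensorProduct.rid R P (a.subtype.lTensor P x₀)) = 0 := by
    have h2 : ∀ y, q (TensorProduct.rid R P y) = TensorProduct.rid R _ (q.rTensor R y) := fun y => by
      induction y using TensorProduct.induction_on with
      | zero => simp
      | tmul p r => simp
      | add y z hy hz => simp only [map_add, hy, hz]
    rw [h2, ← LinearMap.comp_apply, LinearMap.rTensor_comp_lTensor, ← LinearMap.lTensor_comp_rTensor,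
      LinearMap.comp_apply, hx, map_zero]
  obtain ⟨i, hi⟩ := (Submodule.mem_iSup_of_directed J hdir).1 (Ideal.Quotient.eq_zero_iff_mem.1 h1)
  let qi : P →ₗ[R] P ⧸ J i := (Ideal.Quotient.mkₐ R _).toLinearMap
  let f : (P ⧸ J i) →ₗ[R] P ⧸ ⨆ i, J i := (Ideal.Quotient.factorₐ R (le_iSup J i)).toLinearMap
  have hfq : f ∘ₗ qi = q := LinearMap.ext fun p => rfl
  have h3 : a.subtype.lTensor _ (qi.rTensor a x₀) = 0 := by
    apply (TensorProduct.rid R (P ⧸ J i)).injective
    have h4 : qi (TensorProduct.rid R P (a.subtype.lTensor P x₀)) = 0 :=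
      Ideal.Quotient.eq_zero_iff_mem.2 hi
    have h2 : ∀ y, qi (TensorProduct.rid R P y) = TensorProduct.rid R _ (qi.rTensor R y) := fun y => by
      induction y using TensorProduct.induction_on with
      | zero => simp
      | tmul p r => simp
      | add y z hy hz => simp only [map_add, hy, hz]
    rw [map_zero, ← LinearMap.comp_apply, LinearMap.lTensor_comp_rTensor,
      ← LinearMap.rTensor_comp_lTensor, LinearMap.comp_apply, ← h2, h4]
  haveI := h i
  have h5 : qi.rTensor a x₀ = 0 := Module.Flat.lTensor_preserves_injective_linearMap a.subtype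
    Subtype.val_injective (h3.trans (map_zero _).symm)
  rw [← hfq, LinearMap.rTensor_comp_apply, h5, map_zero]

section

open MvPolynomial

variable {K : Type u}

/-- Adjoining a root of a monic polynomial with coefficients free of the variable `y` preserves
flatness of the quotient. -/
theorem flat_step (J : Ideal (MvPolynomial K R)) [Module.Flat R (MvPolynomial K R ⧸ J)] (s : Set K)
    (y : K) (hy : y ∉ s)
    (hJ : J ≤ (J.comap (rename ((↑) : s → K))).map (rename ((↑) : s → K)))
    (f : Polynomial (MvPolynomial s R)) (hf : f.Monic) :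
    Module.Flat R (MvPolynomial K R ⧸
      (J ⊔ Ideal.span {f.eval₂ (rename ((↑) : s → K)).toRingHom (X y)})) := by
  classical
  let Q := MvPolynomial {z : K // z ≠ y} R
  let ι : Q →ₐ[R] MvPolynomial K R := rename (↑)
  let ρ : MvPolynomial K R →ₐ[R] Q := aeval fun z => if h : z = y then 0 else X ⟨z, h⟩
  have hρι : ∀ q, ρ (ι q) = q := fun q => by
    refine AlgHom.congr_fun (?_ : ρ.comp ι = AlgHom.id R Q) q
    refine algHom_ext fun z => ?_
    change ρ (ι (X z)) = X z
    simp only [ι, ρ]
    erw [rename_X, aeval_X]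
    exact dif_neg z.2
  let inc : MvPolynomial s R →ₐ[R] Q := rename fun z => ⟨z.1, fun h => hy (h ▸ z.2)⟩
  have hιinc : ι.comp inc = rename ((↑) : s → K) := algHom_ext fun z => by
    simp only [AlgHom.comp_apply, ι, inc]
    erw [rename_X, rename_X, rename_X]
  let J0 : Ideal Q := J.comap ι
  have hJρ : J ≤ J0.comap ρ := by
    refine hJ.trans (Ideal.map_le_iff_le_comap.2 fun q hq => ?_)
    rw [Ideal.mem_comap, Ideal.mem_comap, Ideal.mem_comap, ← hιinc, AlgHom.comp_apply, hρι]
    rw [Ideal.mem_comap, ← hιinc, AlgHom.comp_apply] at hq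
    exact hq
  haveI hflat0 : Module.Flat R (Q ⧸ J0) := by
    refine Module.Flat.of_retract (M := MvPolynomial K R ⧸ J)
      (Ideal.quotientMapₐ J ι le_rfl).toLinearMap (Ideal.quotientMapₐ J0 ρ hJρ).toLinearMap ?_
    refine LinearMap.ext fun x => ?_
    obtain ⟨x, rfl⟩ := Ideal.Quotient.mk_surjective x
    change Ideal.Quotient.mk J0 (ρ (ι x)) = Ideal.Quotient.mk J0 x
    rw [hρι]
  let mk0 : Q →ₐ[R] Q ⧸ J0 := Ideal.Quotient.mkₐ R J0
  let f0 : Polynomial (Q ⧸ J0) := f.map (mk0.comp inc).toRingHom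
  have hf0 : f0.Monic := hf.map _
  let T := AdjoinRoot f0
  haveI : Module.Free (Q ⧸ J0) T := .of_basis (AdjoinRoot.powerBasis' hf0).basis
  haveI : Module.Flat R T := Module.Flat.trans R (Q ⧸ J0) T
  set F := f.eval₂ (rename ((↑) : s → K)).toRingHom (X y) with hF
  set J' := J ⊔ Ideal.span {F} with hJ'
  let o : Q →ₐ[R] T := (IsScalarTower.toAlgHom R (Q ⧸ J0) T).comp mk0
  let Φ₀ : MvPolynomial K R →ₐ[R] T :=
    aeval fun z => if h : z = y then AdjoinRoot.root f0 else o (X ⟨z, h⟩)
  have hΦι : Φ₀.comp ι = o := algHom_ext fun z => by simp [Φ₀, ι, rename_X, z.2]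
  have hΦs : Φ₀.comp (rename ((↑) : s → K)) = o.comp inc := by
    rw [← hιinc, ← AlgHom.comp_assoc, hΦι]
  have hΦF : Φ₀ F = 0 := by
    rw [hF]
    change Φ₀.toRingHom _ = 0
    rw [Polynomial.hom_eval₂]
    have h1 : Φ₀.toRingHom (X y) = AdjoinRoot.root f0 := by simp [Φ₀]
    rw [h1, show Φ₀.toRingHom.comp (rename ((↑) : s → K)).toRingHom = (o.comp inc).toRingHom from
      RingHom.ext fun q => AlgHom.congr_fun hΦs q]
    have h2 := AdjoinRoot.eval₂_root f0
    rw [Polynomial.eval₂_map] at h2
    exact h2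
  have hΦ : ∀ x ∈ J', Φ₀ x = 0 := by
    intro x hx
    refine (sup_le (c := RingHom.ker Φ₀) ?_ ((Ideal.span_singleton_le_iff_mem _).2 hΦF)) hx
    refine hJ.trans (Ideal.map_le_iff_le_comap.2 fun q hq => ?_)
    rw [Ideal.mem_comap, RingHom.mem_ker, ← AlgHom.comp_apply, hΦs]
    rw [Ideal.mem_comap, ← hιinc] at hq
    change algebraMap (Q ⧸ J0) T (Ideal.Quotient.mk J0 (inc q)) = 0
    rw [Ideal.Quotient.eq_zero_iff_mem.2 (show inc q ∈ J0 from hq), map_zero]
  let Φ : MvPolynomial K R ⧸ J' →ₐ[R] T := Ideal.Quotient.liftₐ J' Φ₀ hΦ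
  let back₀ : Q ⧸ J0 →ₐ[R] MvPolynomial K R ⧸ J' :=
    Ideal.quotientMapₐ J' ι (Ideal.comap_mono le_sup_left)
  have hback : f0.eval₂ back₀.toRingHom (Ideal.Quotient.mk J' (X y)) = 0 := by
    rw [Polynomial.eval₂_map, show back₀.toRingHom.comp (mk0.comp inc).toRingHom =
      (Ideal.Quotient.mk J').comp (rename ((↑) : s → K)).toRingHom from
        RingHom.ext fun q => congrArg (Ideal.Quotient.mk J') (AlgHom.congr_fun hιinc q),
      ← Polynomial.hom_eval₂, Ideal.Quotient.eq_zero_iff_mem]
    exact Ideal.mem_sup_right (Ideal.mem_span_singleton_self F)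
  let Ψ : T →ₐ[R] MvPolynomial K R ⧸ J' :=
    { AdjoinRoot.lift back₀.toRingHom (Ideal.Quotient.mk J' (X y)) hback with
      commutes' := fun r => by
        change AdjoinRoot.lift _ _ hback (algebraMap R T r) = _
        rw [IsScalarTower.algebraMap_apply R (Q ⧸ J0) T, AdjoinRoot.algebraMap_eq,
          AdjoinRoot.lift_of]
        exact back₀.commutes r }
  have hΨroot : Ψ (AdjoinRoot.root f0) = Ideal.Quotient.mk J' (X y) := AdjoinRoot.lift_root hback
  have hΨo : ∀ q, Ψ (o q) = Ideal.Quotient.mk J' (ι q) := fun q => by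
    change AdjoinRoot.lift _ _ hback (AdjoinRoot.of f0 (mk0 q)) = _
    rw [AdjoinRoot.lift_of]
    rfl
  have hid : Ψ.comp Φ = AlgHom.id R _ := by
    refine Ideal.Quotient.algHom_ext _ (algHom_ext fun z => ?_)
    change Ψ (Φ₀ (X z)) = Ideal.Quotient.mk J' (X z)
    by_cases hz : z = y
    · subst hz; simp [Φ₀, hΨroot]
    · simp [Φ₀, hz, hΨo, ι]
      erw [rename_X]
  exact Module.Flat.of_retract Φ.toLinearMap Ψ.toLinearMap
    (LinearMap.ext fun x => AlgHom.congr_fun hid x)

variable [IsLocalRing R] [Field K] [Algebra R K]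

/-- The data maintained along the transfinite construction. -/
structure IsGood (s : Set K) (J : Ideal (MvPolynomial K R)) : Prop where
  flat : Module.Flat R (MvPolynomial K R ⧸ J)
  le_ker : J ≤ RingHom.ker (aeval (R := R) (id : K → K))
  supp : J ≤ (J.comap (rename ((↑) : s → K))).map (rename ((↑) : s → K))
  integ : ∀ z ∈ s, IsIntegral R (Ideal.Quotient.mk J (X z))
  res : ∀ q : MvPolynomial s R, aeval ((↑) : s → K) q = 0 →
    rename ((↑) : s → K) q ∈ (IsLocalRing.maximalIdeal R).map C ⊔ J

theorem isGood_empty (hker : RingHom.ker (algebraMap R K) = IsLocalRing.maximalIdeal R) :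
    IsGood (R := R) (∅ : Set K) ⊥ := by
  refine ⟨Module.Flat.of_linearEquiv (AlgEquiv.quotientBot R (MvPolynomial K R)).toLinearEquiv,
    bot_le, bot_le, fun z hz => absurd hz (Set.notMem_empty z), fun q hq => ?_⟩
  rw [eq_C_of_isEmpty q, aeval_C] at hq
  rw [eq_C_of_isEmpty q, rename_C]
  exact Ideal.mem_sup_left (Ideal.mem_map_of_mem _ (hker ▸ RingHom.mem_ker.2 hq))

theorem isGood_iUnion {ι : Type u} [Nonempty ι] (s : ι → Set K) (J : ι → Ideal (MvPolynomial K R))
    (hs : Directed (fun p q : Set K × Ideal (MvPolynomial K R) => p ≤ q) fun i => (s i, J i))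
    (h : ∀ i, IsGood (s i) (J i)) : IsGood (⋃ i, s i) (⨆ i, J i) := by
  classical
  have hsd : Directed (· ≤ ·) s := fun i j => let ⟨k, h1, h2⟩ := hs i j; ⟨k, h1.1, h2.1⟩
  have hJd : Directed (· ≤ ·) J := fun i j => let ⟨k, h1, h2⟩ := hs i j; ⟨k, h1.2, h2.2⟩
  refine ⟨flat_quotient_iSup J hJd fun i => (h i).flat, iSup_le fun i => (h i).le_ker,
    iSup_le fun i => (h i).supp.trans (Ideal.map_le_iff_le_comap.2 fun q hq => ?_), ?_, ?_⟩
  · let inc : s i → ↥(⋃ i, s i) := fun z => ⟨z.1, Set.mem_iUnion.2 ⟨i, z.2⟩⟩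
    have he : rename ((↑) : s i → K) q = rename ((↑) : ↥(⋃ i, s i) → K) (rename inc q) := by
      rw [rename_rename]; rfl
    rw [Ideal.mem_comap] at hq ⊢
    rw [he]
    exact Ideal.mem_map_of_mem _ (Ideal.mem_comap.2 (le_iSup J i (he ▸ hq)))
  · intro z hz
    obtain ⟨i, hi⟩ := Set.mem_iUnion.1 hz
    exact ((h i).integ z hi).map (Ideal.Quotient.factorₐ R (le_iSup J i))
  · intro q hq
    obtain ⟨t, q', rfl⟩ := exists_finset_rename q
    obtain ⟨i, hi⟩ : ∃ i, ∀ z : {x // x ∈ t}, (z.1 : K) ∈ s i := by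
      have hu : (↑(t.image Subtype.val) : Set K) ⊆ ⋃ i, s i := by
        intro z hz
        obtain ⟨w, _, rfl⟩ := Finset.mem_image.1 (Finset.mem_coe.1 hz)
        exact w.2
      obtain ⟨i, hi⟩ := hsd.exists_mem_subset_of_finset_subset_biUnion hu
      exact ⟨i, fun z => hi (Finset.mem_coe.2 (Finset.mem_image_of_mem _ z.2))⟩
    let g : {x // x ∈ t} → s i := fun z => ⟨z.1.1, hi z⟩
    have h1 : aeval ((↑) : s i → K) (rename g q') = 0 := by
      rw [aeval_rename] at hq ⊢
      exact hq
    have h2 := (h i).res _ h1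
    rw [rename_rename] at h2
    rw [rename_rename]
    exact sup_le_sup le_rfl (le_iSup J i) h2

theorem exists_eval₂_eq {s : Set K} {y : K} (q : MvPolynomial (↥(insert y s)) R) :
    ∃ p : Polynomial (MvPolynomial s R), rename ((↑) : ↥(insert y s) → K) q =
      p.eval₂ (rename ((↑) : s → K)).toRingHom (X y) := by
  classical
  induction q using MvPolynomial.induction_on with
  | C r => exact ⟨Polynomial.C (C r), by simp⟩
  | add p q hp hq =>
    obtain ⟨p', hp'⟩ := hp
    obtain ⟨q', hq'⟩ := hq
    exact ⟨p' + q', by rw [map_add, Polynomial.eval₂_add, hp', hq']⟩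
  | mul_X p z hp =>
    obtain ⟨p', hp'⟩ := hp
    obtain ⟨z, hz⟩ := z
    rcases Set.mem_insert_iff.1 hz with rfl | hzs
    · exact ⟨p' * Polynomial.X, by simp [hp']⟩
    · exact ⟨p' * Polynomial.C (X ⟨z, hzs⟩), by simp [hp']⟩

theorem exists_monic_min (hint : Algebra.IsIntegral R K) (s : Set K) (y : K) :
    ∃ f : Polynomial (MvPolynomial s R), f.Monic ∧
      f.eval₂ (aeval ((↑) : s → K) : MvPolynomial s R →ₐ[R] K).toRingHom y = 0 ∧
      ∀ g : Polynomial (MvPolynomial s R), g.degree < f.degree →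
        g.eval₂ (aeval ((↑) : s → K) : MvPolynomial s R →ₐ[R] K).toRingHom y = 0 →
        ∀ n, aeval ((↑) : s → K) (g.coeff n) = 0 := by
  classical
  set e : MvPolynomial s R →+* K := (aeval ((↑) : s → K)).toRingHom with he
  let P : ℕ → Prop := fun d => ∃ f : Polynomial (MvPolynomial s R),
    f.Monic ∧ f.natDegree = d ∧ f.eval₂ e y = 0
  have hex : ∃ d, P d := by
    obtain ⟨f, hf, hfy⟩ := hint.isIntegral y
    refine ⟨_, f.map C, hf.map _, rfl, ?_⟩
    rw [Polynomial.eval₂_map, show e.comp C = algebraMap R K from RingHom.ext fun r => by simp [he]]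
    exact hfy
  obtain ⟨f, hf, hfd, hfy⟩ := Nat.find_spec hex
  refine ⟨f, hf, hfy, fun g hg hgy => ?_⟩
  suffices H : g.map e = 0 by
    intro n
    have := congrArg (fun p => Polynomial.coeff p n) H
    simpa [he] using this
  by_contra hne
  let L := (aeval ((↑) : s → K) : MvPolynomial s R →ₐ[R] K).range
  haveI : Algebra.IsIntegral L K := ⟨fun x => (hint.isIntegral x).tower_top⟩
  have hL : IsField L := isField_of_isIntegral_of_isField Subtype.val_injective (Field.toIsField K)
  set d := (g.map e).natDegree with hd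
  have hc : (g.map e).coeff d ≠ 0 := Polynomial.leadingCoeff_ne_zero.2 hne
  have hcL : (g.map e).coeff d ∈ L := ⟨g.coeff d, by simp [he]⟩
  obtain ⟨⟨_, c', rfl⟩, hc'⟩ :=
    hL.mul_inv_cancel (a := ⟨_, hcL⟩) fun h => hc (congrArg Subtype.val h)
  have hc'' : e (g.coeff d) * e c' = 1 := by
    have := congrArg Subtype.val hc'
    simpa [he] using this
  let g' : Polynomial (MvPolynomial s R) :=
    Polynomial.X ^ d + ∑ i ∈ Finset.range d, Polynomial.C (c' * g.coeff i) * Polynomial.X ^ i
  have hlow : (∑ i ∈ Finset.range d, Polynomial.C (c' * g.coeff i) * Polynomial.X ^ i).degree <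
      (d : WithBot ℕ) :=
    lt_of_le_of_lt (Polynomial.degree_sum_le _ _) ((Finset.sup_lt_iff (WithBot.bot_lt_coe d)).2
      fun i hi => lt_of_le_of_lt (Polynomial.degree_C_mul_X_pow_le i _)
        (WithBot.coe_lt_coe.2 (Finset.mem_range.1 hi)))
  have hg'm : g'.Monic := Polynomial.monic_X_pow_add hlow
  have hg'd : g'.natDegree = d := by
    apply Polynomial.natDegree_eq_of_degree_eq_some
    rw [Polynomial.degree_add_eq_left_of_degree_lt, Polynomial.degree_X_pow]
    rwa [Polynomial.degree_X_pow]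
  have hg'y : g'.eval₂ e y = 0 := by
    have h1 : (g.map e).eval y = 0 := by rwa [Polynomial.eval_map]
    rw [Polynomial.eval_eq_sum_range, ← hd, Finset.sum_range_succ] at h1
    simp only [Polynomial.coeff_map] at h1
    have h2 : e c' * (∑ i ∈ Finset.range d, e (g.coeff i) * y ^ i + e (g.coeff d) * y ^ d) = 0 := by
      rw [h1, mul_zero]
    rw [mul_add, Finset.mul_sum, ← mul_assoc, mul_comm (e c') (e (g.coeff d)), hc'', one_mul] at h2
    simp only [g', Polynomial.eval₂_add, Polynomial.eval₂_X_pow, Polynomial.eval₂_finset_sum,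
      Polynomial.eval₂_mul, Polynomial.eval₂_C, map_mul]
    rw [add_comm]
    simpa [mul_assoc] using h2
  have hmin : Nat.find hex ≤ d := Nat.find_le ⟨g', hg'm, hg'd, hg'y⟩
  have hlt : d < Nat.find hex := by
    have h1 : g ≠ 0 := fun h => hne (by simp [h])
    have h2 : (g.map e).natDegree ≤ g.natDegree := Polynomial.natDegree_map_le
    have h3 := Polynomial.natDegree_lt_natDegree h1 hg
    omega
  omega

theorem isGood_insert (hint : Algebra.IsIntegral R K) {s : Set K} {J : Ideal (MvPolynomial K R)}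
    (h : IsGood s J) {y : K} (hy : y ∉ s) :
    ∃ J', J ≤ J' ∧ IsGood (insert y s) J' := by
  classical
  set ιs : MvPolynomial s R →ₐ[R] MvPolynomial K R := rename (↑) with hιs
  obtain ⟨f, hf, hfy, hmin⟩ := exists_monic_min hint s y
  set e : MvPolynomial s R →+* K := (aeval ((↑) : s → K)).toRingHom with he
  have hev : (aeval (R := R) (id : K → K)).toRingHom.comp ιs.toRingHom = e :=
    RingHom.ext fun q => by simp [hιs, he, aeval_rename]
  set F := f.eval₂ ιs.toRingHom (X y) with hF
  haveI := h.flat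
  refine ⟨J ⊔ Ideal.span {F}, le_sup_left, ⟨flat_step J s y hy h.supp f hf, ?_, ?_, ?_, ?_⟩⟩
  · refine sup_le h.le_ker ((Ideal.span_singleton_le_iff_mem _).2 ?_)
    rw [RingHom.mem_ker, hF]
    change (aeval (R := R) (id : K → K)).toRingHom _ = 0
    rw [Polynomial.hom_eval₂, hev]
    simpa using hfy
  · let inc : s → ↥(insert y s) := fun z => ⟨z.1, Set.mem_insert_of_mem y z.2⟩
    have hcomp : ∀ q, ιs q = rename ((↑) : ↥(insert y s) → K) (rename inc q) := fun q => by
      rw [rename_rename]; rfl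
    refine sup_le (h.supp.trans (Ideal.map_le_iff_le_comap.2 fun q hq => ?_))
      ((Ideal.span_singleton_le_iff_mem _).2 ?_)
    · rw [Ideal.mem_comap] at hq ⊢
      rw [hcomp]
      exact Ideal.mem_map_of_mem _ (Ideal.mem_comap.2 (Ideal.mem_sup_left (hcomp q ▸ hq)))
    · have hFin : F = rename ((↑) : ↥(insert y s) → K)
          (f.eval₂ (rename inc).toRingHom (X ⟨y, Set.mem_insert y s⟩)) := by
        change _ = (rename ((↑) : ↥(insert y s) → K)).toRingHom _
        rw [Polynomial.hom_eval₂, hF, show (rename ((↑) : ↥(insert y s) → K)).toRingHom.comp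
          (rename inc).toRingHom = ιs.toRingHom from RingHom.ext fun q => (hcomp q).symm]
        simp
      refine hFin.symm ▸ Ideal.mem_map_of_mem _ (Ideal.mem_comap.2 ?_)
      exact hFin ▸ Ideal.mem_sup_right (Ideal.mem_span_singleton_self F)
  · intro z hz
    have hold : ∀ w ∈ s, IsIntegral R (Ideal.Quotient.mk (J ⊔ Ideal.span {F}) (X w)) := fun w hw =>
      (h.integ w hw).map (Ideal.Quotient.factorₐ R le_sup_left)
    rcases Set.mem_insert_iff.1 hz with rfl | hzs
    · let S := integralClosure R (MvPolynomial K R ⧸ (J ⊔ Ideal.span {F}))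
      let ψ : MvPolynomial s R →ₐ[R] MvPolynomial K R ⧸ (J ⊔ Ideal.span {F}) :=
        (Ideal.Quotient.mkₐ R _).comp ιs
      have hψ : ∀ q, ψ q ∈ S := fun q => by
        induction q using MvPolynomial.induction_on with
        | C r => exact (ψ.commutes r).symm ▸ isIntegral_algebraMap
        | add p q hp hq => rw [map_add]; exact add_mem hp hq
        | mul_X p w hp =>
          rw [map_mul]
          refine mul_mem hp ?_
          change IsIntegral R _
          simpa [ψ, hιs] using hold w w.2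
      let ψ' : MvPolynomial s R →ₐ[R] S := ψ.codRestrict S hψ
      haveI : Algebra.IsIntegral R S := inferInstance
      refine isIntegral_trans (R := R) (A := S) _ ⟨f.map ψ'.toRingHom, hf.map _, ?_⟩
      rw [Polynomial.eval₂_map, show (algebraMap S _).comp ψ'.toRingHom =
        (Ideal.Quotient.mk (J ⊔ Ideal.span {F})).comp ιs.toRingHom from RingHom.ext fun q => rfl,
        ← Polynomial.hom_eval₂, Ideal.Quotient.eq_zero_iff_mem]
      exact Ideal.mem_sup_right (Ideal.mem_span_singleton_self F)
    · exact hold z hzs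
  · intro q hq
    obtain ⟨p, hp⟩ := exists_eval₂_eq q
    rw [hp, ← Polynomial.modByMonic_add_div p f, Polynomial.eval₂_add, Polynomial.eval₂_mul]
    have hpy : p.eval₂ e y = 0 := by
      have h1 : aeval (R := R) (id : K → K) (rename ((↑) : ↥(insert y s) → K) q) = 0 := by
        rw [aeval_rename]; exact hq
      rw [hp] at h1
      change (aeval (R := R) (id : K → K)).toRingHom _ = 0 at h1
      rw [Polynomial.hom_eval₂, hev] at h1
      simpa using h1
    have hr : ∀ n, aeval ((↑) : s → K) ((p %ₘ f).coeff n) = 0 :=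
      hmin _ (Polynomial.degree_modByMonic_lt p hf) (by
        have := hpy
        rw [← Polynomial.modByMonic_add_div p f, Polynomial.eval₂_add, Polynomial.eval₂_mul] at this
        rw [show f.eval₂ e y = 0 from hfy, zero_mul, add_zero] at this
        exact this)
    refine Submodule.add_mem _ ?_ (Ideal.mul_mem_right _ _
      (Ideal.mem_sup_right (Ideal.mem_sup_right (Ideal.mem_span_singleton_self F))))
    rw [Polynomial.eval₂_eq_sum_range]
    exact Submodule.sum_mem _ fun n _ => Ideal.mul_mem_right _ _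
      (sup_le_sup (le_refl ((IsLocalRing.maximalIdeal R).map C))
        (le_sup_left (a := J) (b := Ideal.span {F})) (h.res _ (hr n)))

/-- Lifting an algebraic residue field extension to a flat local algebra. -/
theorem exists_flat_of_isIntegral (hker : RingHom.ker (algebraMap R K) = IsLocalRing.maximalIdeal R)
    (hint : Algebra.IsIntegral R K) :
    ∃ (C : Type u) (_ : CommRing C) (_ : Algebra R C), Module.Flat R C ∧ IsLocalRing C ∧
      ∃ π : C →ₐ[R] K, Function.Surjective π ∧
        RingHom.ker π = (IsLocalRing.maximalIdeal R).map (algebraMap R C) := by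
  classical
  let G : Set (Set K × Ideal (MvPolynomial K R)) := {p | IsGood p.1 p.2}
  obtain ⟨⟨s, J⟩, hmax⟩ := zorn_le₀ G fun c hc hchain => by
    rcases c.eq_empty_or_nonempty with rfl | hne
    · exact ⟨(∅, ⊥), isGood_empty hker, by simp⟩
    · haveI : Nonempty c := hne.to_subtype
      refine ⟨(⋃ i : c, i.1.1, ⨆ i : c, i.1.2),
        isGood_iUnion (fun i : c => i.1.1) (fun i : c => i.1.2) ?_ fun i => hc i.2,
        fun p hp => ⟨Set.subset_iUnion (fun i : c => i.1.1) ⟨p, hp⟩,
          le_iSup (fun i : c => i.1.2) ⟨p, hp⟩⟩⟩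
      exact hchain.directed
  have hgood : IsGood s J := hmax.prop
  have huniv : ∀ y, y ∈ s := fun y => by
    by_contra hy
    obtain ⟨J', hle, hg⟩ := isGood_insert hint hgood hy
    exact hy ((hmax.2 (y := (insert y s, J')) hg ⟨Set.subset_insert _ _, hle⟩).1 (Set.mem_insert y s))
  let C' := MvPolynomial K R ⧸ J
  let π : C' →ₐ[R] K := Ideal.Quotient.liftₐ J (aeval id) fun x hx => hgood.le_ker hx
  have hsurj : Function.Surjective π := fun y => ⟨Ideal.Quotient.mk J (X y), aeval_X id y⟩
  have hkπ : RingHom.ker π = (IsLocalRing.maximalIdeal R).map (algebraMap R C') := by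
    refine le_antisymm (fun x hx => ?_) (Ideal.map_le_iff_le_comap.2 fun r hr => ?_)
    · obtain ⟨x, rfl⟩ := Ideal.Quotient.mk_surjective x
      let x' : MvPolynomial s R := rename (fun z => ⟨z, huniv z⟩) x
      have hx' : rename ((↑) : s → K) x' = x := by
        rw [rename_rename]; exact rename_id_apply x
      have h1 : aeval ((↑) : s → K) x' = 0 := by
        rw [aeval_rename]; exact hx
      have h2 := Ideal.mem_map_of_mem (Ideal.Quotient.mk J) (hx' ▸ hgood.res x' h1)
      rwa [Ideal.map_sup, Ideal.map_quotient_self, sup_bot_eq, Ideal.map_map] at h2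
    · rw [Ideal.mem_comap, RingHom.mem_ker, AlgHom.commutes]
      exact hker.ge hr
  haveI : Algebra.IsIntegral R C' := ⟨fun x => by
    obtain ⟨x, rfl⟩ := Ideal.Quotient.mk_surjective x
    induction x using MvPolynomial.induction_on with
    | C r => exact isIntegral_algebraMap (R := R) (A := C')
    | add p q hp hq => rw [map_add]; exact hp.add hq
    | mul_X p z hp => rw [map_mul]; exact hp.mul (hgood.integ z (huniv z))⟩
  have hmaxker : (RingHom.ker π).IsMaximal :=
    RingHom.ker_isMaximal_of_surjective π hsurj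
  refine ⟨C', inferInstance, inferInstance, hgood.flat,
    IsLocalRing.of_unique_max_ideal ⟨RingHom.ker π, hmaxker, fun M hM => ?_⟩, π, hsurj, hkπ⟩
  have h1 := Ideal.isMaximal_comap_of_isIntegral_of_isMaximal (R := R) M
  refine (hmaxker.eq_of_le hM.ne_top ?_).symm
  rw [hkπ, Ideal.map_le_iff_le_comap, IsLocalRing.eq_maximalIdeal h1]

end

end Groth.Agent.ResExt
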