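import Mathlib.RingTheory.AlgebraicIndependent.TranscendenceBasis
import Mathlib.RingTheory.AlgebraicIndependent.Adjoin
import Mathlib.RingTheory.Localization.AtPrime.Basic
import Mathlib.RingTheory.LocalRing.ResidueField.Basic
import Mathlib.RingTheory.Flat.Localization
import Mathlib.RingTheory.Flat.Stability
import Mathlib.RingTheory.Polynomial.Basic
import Mathlib.Algebra.Polynomial.Lifts

/-!
A flat local algebra with residue field a purely transcendental extension over which `K` is
integral.
-/

universe u

namespace Groth.Agent.ResExt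

open MvPolynomial

theorem exists_transc {A : Type u} [CommRing A] [IsLocalRing A] (K : Type u) [Field K] [Algebra A K]
    (hker : RingHom.ker (algebraMap A K) = IsLocalRing.maximalIdeal A) :
    ∃ (R : Type u) (_ : CommRing R) (_ : Algebra A R) (_ : IsLocalRing R) (_ : Algebra R K),
      IsScalarTower A R K ∧ Module.Flat A R ∧
        (IsLocalRing.maximalIdeal A).map (algebraMap A R) = IsLocalRing.maximalIdeal R ∧
        RingHom.ker (algebraMap R K) = IsLocalRing.maximalIdeal R ∧ Algebra.IsIntegral R K := by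
  classical
  let κ := IsLocalRing.ResidueField A
  let g : κ →+* K := Ideal.Quotient.lift _ (algebraMap A K) fun a ha => hker.ge ha
  letI : Algebra κ K := g.toAlgebra
  obtain ⟨σ, hσ⟩ := exists_isTranscendenceBasis (R := κ) (A := K)
  set x : σ → K := (↑) with hx
  let P := MvPolynomial σ A
  let φ : P →ₐ[A] K := aeval x
  set q : Ideal P := (IsLocalRing.maximalIdeal A).map C with hq
  have hmap : ∀ p : P, aeval (R := κ) x (MvPolynomial.map (IsLocalRing.residue A) p) = φ p := by
    intro p
    rw [aeval_def, eval₂_map]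
    rfl
  have hqker : RingHom.ker φ = q := by
    refine le_antisymm (fun p hp => ?_) (Ideal.map_le_iff_le_comap.2 fun a ha => ?_)
    · rw [hq, MvPolynomial.mem_map_C_iff]
      intro m
      have h0 : MvPolynomial.map (IsLocalRing.residue A) p = 0 :=
        algebraicIndependent_iff_injective_aeval.1 hσ.1
          (by rw [hmap, RingHom.mem_ker.1 hp, map_zero])
      have := congrArg (MvPolynomial.coeff m) h0
      rw [coeff_map, coeff_zero, ← RingHom.mem_ker, IsLocalRing.ker_residue] at this
      exact this
    · rw [Ideal.mem_comap, RingHom.mem_ker, aeval_C]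
      exact hker.ge ha
  haveI : q.IsPrime := by rw [← hqker]; exact RingHom.ker_isPrime φ
  have hunit : ∀ y : q.primeCompl, IsUnit (φ y) := fun y =>
    (isUnit_iff_ne_zero).2 fun h0 => y.2 (hqker.le (RingHom.mem_ker.2 h0))
  let R := Localization.AtPrime q
  let Φ : R →ₐ[A] K := IsLocalization.liftAlgHom (M := q.primeCompl) (f := φ) hunit
  letI algRK : Algebra R K := Φ.toRingHom.toAlgebra
  have hΦ : ∀ p : P, algebraMap R K (algebraMap P R p) = φ p := fun p =>
    IsLocalization.lift_eq hunit p
  haveI : IsScalarTower A R K := IsScalarTower.of_algebraMap_eq fun a => (Φ.commutes a).symm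
  have hmax : (IsLocalRing.maximalIdeal A).map (algebraMap A R) = IsLocalRing.maximalIdeal R := by
    rw [IsScalarTower.algebraMap_eq A P R, ← Ideal.map_map]
    exact IsLocalization.AtPrime.map_eq_maximalIdeal q R
  have hkerR : RingHom.ker (algebraMap R K) = IsLocalRing.maximalIdeal R := by
    refine le_antisymm (IsLocalRing.le_maximalIdeal (RingHom.ker_ne_top _)) ?_
    rw [← IsLocalization.AtPrime.map_eq_maximalIdeal q R, Ideal.map_le_iff_le_comap]
    intro p hp
    rw [Ideal.mem_comap, RingHom.mem_ker, hΦ]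
    exact hqker.ge hp
  refine ⟨R, inferInstance, inferInstance, inferInstance, algRK, inferInstance,
    inferInstance, hmax, hkerR, ⟨fun y => ?_⟩⟩
  haveI : Algebra.IsAlgebraic (Algebra.adjoin κ (Set.range x)) K := hσ.isAlgebraic
  obtain ⟨p, hp0, hpy⟩ := Algebra.IsAlgebraic.isAlgebraic (R := Algebra.adjoin κ (Set.range x)) y
  set pK := p.map (algebraMap (Algebra.adjoin κ (Set.range x)) K) with hpK
  have hp0' : pK ≠ 0 := (Polynomial.map_ne_zero_iff Subtype.val_injective).2 hp0
  have hcoef : ∀ n, ∃ a : P, φ a = pK.coeff n := by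
    intro n
    have h1 : pK.coeff n ∈ (Algebra.adjoin κ (Set.range x) : Subalgebra κ K) := by
      rw [hpK, Polynomial.coeff_map]; exact Subtype.coe_prop _
    rw [Algebra.adjoin_range_eq_range_aeval] at h1
    obtain ⟨b, hb⟩ := h1
    obtain ⟨a, rfl⟩ := MvPolynomial.map_surjective (IsLocalRing.residue A)
      IsLocalRing.residue_surjective b
    exact ⟨a, by rw [← hmap]; exact hb⟩
  obtain ⟨c, hc⟩ := hcoef pK.natDegree
  have hc0 : pK.coeff pK.natDegree ≠ 0 := Polynomial.leadingCoeff_ne_zero.2 hp0'
  obtain ⟨cu, hcu⟩ : ∃ z : R, algebraMap P R c * z = 1 :=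
    isUnit_iff_exists_inv.1 (IsLocalization.map_units R
      (⟨c, fun h => hc0 (hc.symm.trans (RingHom.mem_ker.1 (hqker.ge h)))⟩ : q.primeCompl))
  have hinv : pK.coeff pK.natDegree * algebraMap R K cu = 1 := by
    rw [← hc, ← hΦ, ← map_mul, hcu, map_one]
  set m := Polynomial.C (algebraMap R K cu) * pK with hm
  have hlift : m ∈ Polynomial.lifts (algebraMap R K) := by
    rw [Polynomial.lifts_iff_coeff_lifts]
    intro n
    obtain ⟨a, ha⟩ := hcoef n
    exact ⟨cu * algebraMap P R a, by rw [map_mul, hΦ, ha, hm, Polynomial.coeff_C_mul]⟩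
  have hmonic : m.Monic := by
    rw [Polynomial.Monic, hm, Polynomial.leadingCoeff_mul, Polynomial.leadingCoeff_C, mul_comm]
    exact hinv
  obtain ⟨f, hf, -, hfm⟩ := Polynomial.lifts_and_natDegree_eq_and_monic hlift hmonic
  refine ⟨f, hfm, ?_⟩
  rw [← Polynomial.eval_map, hf, hm, Polynomial.eval_mul, hpK, Polynomial.eval_map_algebraMap,
    hpy, mul_zero]

end Groth.Agent.ResExt
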